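import Cfsg.Agent.CosetCert.J4M24Q.CheckLog0
import Cfsg.Agent.CosetCert.J4M24Q.CheckLog1
import Cfsg.Agent.CosetCert.J4M24Q.CheckLog2

/-! Generated: kernel checks combined. -/

namespace Cfsg.Agent.CosetCert.J4M24Q

theorem log_ok : ∀ i, i < 30141 → data.checkLog i = true := by
  have h0 : ∀ i, i < 0 → data.checkLog i = true := forall_lt_zero
  have h1 := forall_lt_step (b := 1500) h0 log_okAt0 rfl
  have h2 := forall_lt_step (b := 3000) h1 log_okAt1500 rfl
  have h3 := forall_lt_step (b := 4500) h2 log_okAt3000 rfl
  have h4 := forall_lt_step (b := 6000) h3 log_okAt4500 rfl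
  have h5 := forall_lt_step (b := 7500) h4 log_okAt6000 rfl
  have h6 := forall_lt_step (b := 9000) h5 log_okAt7500 rfl
  have h7 := forall_lt_step (b := 10500) h6 log_okAt9000 rfl
  have h8 := forall_lt_step (b := 12000) h7 log_okAt10500 rfl
  have h9 := forall_lt_step (b := 13500) h8 log_okAt12000 rfl
  have h10 := forall_lt_step (b := 15000) h9 log_okAt13500 rfl
  have h11 := forall_lt_step (b := 16500) h10 log_okAt15000 rfl
  have h12 := forall_lt_step (b := 18000) h11 log_okAt16500 rfl
  have h13 := forall_lt_step (b := 19500) h12 log_okAt18000 rfl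
  have h14 := forall_lt_step (b := 21000) h13 log_okAt19500 rfl
  have h15 := forall_lt_step (b := 22500) h14 log_okAt21000 rfl
  have h16 := forall_lt_step (b := 24000) h15 log_okAt22500 rfl
  have h17 := forall_lt_step (b := 25500) h16 log_okAt24000 rfl
  have h18 := forall_lt_step (b := 27000) h17 log_okAt25500 rfl
  have h19 := forall_lt_step (b := 28500) h18 log_okAt27000 rfl
  have h20 := forall_lt_step (b := 30000) h19 log_okAt28500 rfl
  have h21 := forall_lt_step (b := 30141) h20 log_okAt30000 rfl
  exact h21

end Cfsg.Agent.CosetCert.J4M24Q
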